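import Cfsg.Agent.H241.NHTools
import Cfsg.Agent.H393.Iso.Co1
import Cfsg.Agent.LThreeCo1T8.Main
import Cfsg.Agent.MFiveHN.Cent
import Cfsg.Agent.BpSpor.MBigCo
import Cfsg.Agent.H573.Spor.CoOneFive
import Cfsg.Agent.NotCT.Orders

/-!
# Row of the nilpotent Hall cluster: `Co₁` (helper265 for helper241)

* `3`: an element of order 3 with centralizer `3 × A₉`;
* `5`: an element of order 5 with centralizer of order 36000;
* the pair `13, 7`: elements of order 13 have no fixed vectors on the Leech lattice.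
-/

set_option autoImplicit false
open Cfsg Subgroup

namespace Cfsg.Agent.H265.NH.CoOne

open Cfsg.Agent.H630.NH Cfsg.Agent.H241.NH Cfsg.Agent.H393.Iso
open Cfsg.Agent.CoOneType.ClosingFacts (mk mk_mul mk_inv exists_mk mk_eq_one mk_eq)

theorem card_co1 : Nat.card Spor.Co1 = 4157776806543360000 := BpSpor.MBigCo.card_co1

instance : Finite Spor.Co1 := BpSpor.MBigCo.finite_co1

/-- the order of the centralizer of the element of order 3 -/
theorem card_three : ∃ k ≤ 3, k ≠ 0 ∧ Nat.card (centralizer ({LThreeCo1T8.Main.xx} : Set Spor.Co1)) = k * 181440 := by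
  have h1 : Nat.card LThreeCo1T8.Main.AA = 181440 := by
    obtain ⟨e⟩ := LThreeCo1T8.Main.nonempty_equiv
    have h2 := nat_card_alternatingGroup (α := Fin 9)
    rw [Nat.card_congr e.toEquiv, h2, Nat.card_fin]
    rfl
  have h2 := card_dvd_of_le LThreeCo1T8.Main.AA_le
  have h3 := LThreeCo1T8.Main.card_le
  rw [h1] at h2 h3
  obtain ⟨k, hk⟩ := h2
  refine ⟨k, ?_, ?_, by rw [hk, mul_comm]⟩
  · rw [hk] at h3
    omega
  · rintro rfl
    rw [mul_zero] at hk
    exact absurd hk Nat.card_pos.ne'

theorem nc_three {q : ℕ} (hq : q ∈ [5, 7, 11, 13, 23]) : NC 3 q Spor.Co1 := by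
  obtain ⟨k, hk, hk0, hc⟩ := card_three
  have ho : ∃ k : ℕ, orderOf LThreeCo1T8.Main.xx = 3 ^ k := ⟨1, by rw [LThreeCo1T8.Main.order_x, pow_one]⟩
  simp only [List.mem_cons, List.not_mem_nil, or_false] at hq
  rcases hq with rfl | rfl | rfl | rfl | rfl
  · refine nc_of_card (a := 4) (by norm_num) (by norm_num) ho (by rw [card_co1]; norm_num) ?_
    rw [hc]; interval_cases k <;> first | exact absurd rfl hk0 | norm_num
  · refine nc_of_card (a := 2) (by norm_num) (by norm_num) ho (by rw [card_co1]; norm_num) ?_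
    rw [hc]; interval_cases k <;> first | exact absurd rfl hk0 | norm_num
  · refine nc_of_card (a := 1) (by norm_num) (by norm_num) ho (by rw [card_co1]; norm_num) ?_
    rw [hc]; interval_cases k <;> first | exact absurd rfl hk0 | norm_num
  · refine nc_of_card (a := 1) (by norm_num) (by norm_num) ho (by rw [card_co1]; norm_num) ?_
    rw [hc]; interval_cases k <;> first | exact absurd rfl hk0 | norm_num
  · refine nc_of_card (a := 1) (by norm_num) (by norm_num) ho (by rw [card_co1]; norm_num) ?_
    rw [hc]; interval_cases k <;> first | exact absurd rfl hk0 | norm_num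

theorem card_five : Nat.card (centralizer ({MFiveHN.Cent.xx} : Set Spor.Co1)) = 36000 := by
  rw [Cfsg.Agent.H573.Spor.card_XX, MFiveHN.Cent.quo.1, MFiveHN.Cent.order_x]

theorem nc_five {q : ℕ} (hq : q ∈ [7, 11, 13, 23]) : NC 5 q Spor.Co1 := by
  have ho : ∃ k : ℕ, orderOf MFiveHN.Cent.xx = 5 ^ k := ⟨1, by rw [MFiveHN.Cent.order_x, pow_one]⟩
  simp only [List.mem_cons, List.not_mem_nil, or_false] at hq
  rcases hq with rfl | rfl | rfl | rfl
  all_goals
    refine nc_of_card (a := 1) (by norm_num) (by norm_num) ho (by rw [card_co1]; norm_num) ?_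
    rw [card_five]; norm_num

theorem nc_thirteen : NC 13 7 Spor.Co1 := by
  have h13 : Fact (Nat.Prime 13) := ⟨by norm_num⟩
  obtain ⟨s, hs⟩ := exists_prime_orderOf_dvd_card' (G := Spor.Co1) 13 (by rw [card_co1]; norm_num)
  obtain ⟨a, ha, ha13, hao⟩ := BpSpor.MBigCo.exists_lift_thirteen hs
  have h7 := BpSpor.MBigCo.not_dvd_thirteen hao (q := 7) (by norm_num) (by norm_num) (by norm_num)
  refine nc_of_elem (p := 13) (by norm_num) (by norm_num) (by rw [card_co1]; norm_num) hs fun y hy hc => h7 ?_
  obtain ⟨b, hb, hb7⟩ := LThreeBX.NoSeven.exists_odd (n := 7) (by decide)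
    (show y ^ 7 = 1 by rw [← hy, pow_orderOf_eq_one])
  have hb1 : b ≠ 1 := by
    rintro rfl
    have h1 : y = 1 := hb.symm
    rw [h1, orderOf_one] at hy
    norm_num at hy
  have hF7 : Fact (Nat.Prime 7) := ⟨by norm_num⟩
  have hbo : orderOf b = 7 := orderOf_eq_prime hb7 hb1
  have hab := LThreeBX.NoSeven.comm_of_mk (a := a) (b := b) (n := 13) (by decide) ha13 (by rw [ha, hb]; exact hc)
  have hbC : b ∈ centralizer ({a} : Set Co0) := mem_centralizer_singleton_iff.2 hab.symm
  rw [← hbo, ← Subgroup.orderOf_mk b hbC]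
  exact orderOf_dvd_natCard _

/-- **Row**: `Co₁` -/
theorem row_co1 {G : Type*} [Group G] [Finite G] [IsSimpleGroup G] (h : Spor.IsoCo1 G) : Row G := by
  have hN := NotCT.Orders.co1 h
  obtain ⟨e⟩ := id h
  refine row_of (N := 4157776806543360000) (k := 21) hN [3, 5, 7, 11, 13, 23] [3, 5] [23] 7 [(13, 7)]
    ?_ ?_ ?_ ?_ ?_ ?_ ?_ ?_
  · decide
  · decide
  · decide
  · exact ab_of_not_cube (by norm_num) (by rw [hN]; norm_num)
  · intro p hp q hq hpq
    simp only [List.mem_cons, List.not_mem_nil, or_false] at hp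
    rcases hp with rfl | rfl
    · refine (nc_three ?_).congr e.symm
      simp only [List.mem_cons, List.not_mem_nil, or_false] at hq ⊢
      tauto
    · by_cases h3 : q = 3
      · subst h3
        exact ((nc_three (by decide)).symm).congr e.symm
      · refine (nc_five ?_).congr e.symm
        simp only [List.mem_cons, List.not_mem_nil, or_false] at hq ⊢
        tauto
  · intro r hr
    obtain rfl := List.mem_singleton.1 hr
    exact solv_of_na (by norm_num) (by rw [hN]; norm_num) (na_co1 h)
  · intro a ha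
    obtain rfl := List.mem_singleton.1 ha
    exact nc_thirteen.congr e.symm
  · decide

end Cfsg.Agent.H265.NH.CoOne
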